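import Groth.Agent.Lib.BranchSm1.Basic
import Groth.Agent.Lib.Hens.TensorAtPrime
import Mathlib.RingTheory.Smooth.Flat

/-!
# Branches of smooth local rings over henselian bases
-/

open IsLocalRing

open scoped TensorProduct

set_option linter.style.haveILetI false

namespace Groth.Agent.BranchSm1

universe u

theorem encard_eq_of_smooth (R' D : Type u) [CommRing R'] [HenselianLocalRing R'] [CommRing D] [Algebra R' D]
    [Algebra.Smooth R' D] (Q : Ideal D) [Q.IsPrime] (hQ : Q.comap (algebraMap R' D) = maximalIdeal R')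
    (E : Type u) [CommRing E] [IsLocalRing E] [Algebra (Localization.AtPrime Q) E]
    [IsLocalHom (algebraMap (Localization.AtPrime Q) E)] [Algebra R' E] [IsScalarTower R' (Localization.AtPrime Q) E]
    (hE : Hensel.IsHenselization (Localization.AtPrime Q) E ∨ Hensel.IsStrictHenselization (Localization.AtPrime Q) E)
    (hlocal : ∀ (N : Type u) [CommRing N] [IsLocalRing N] [Algebra R' N] [IsLocalHom (algebraMap R' N)],
      Algebra.IsIntegral R' N → IsLocalRing (N ⊗[R'] E)) :
    (minimalPrimes E).encard = (minimalPrimes R').encard := by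
  let A := Localization.AtPrime Q
  haveI : Module.Flat R' D := Algebra.Smooth.flat R' D
  haveI : Module.Flat D A := IsLocalization.flat A Q.primeCompl
  haveI : Module.Flat R' A := Module.Flat.trans R' D A
  haveI : IsLocalHom (algebraMap R' A) := by
    refine ((local_hom_TFAE _).out 0 4).mpr ?_
    rw [IsScalarTower.algebraMap_eq R' D A, ← Ideal.comap_comap]
    show ((maximalIdeal A).under D).comap _ = _
    rw [IsLocalization.AtPrime.under_maximalIdeal A Q]
    exact hQ
  refine encard_minimalPrimes_eq R' A E hE (fun N _ _ hN => ?_) hlocal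
  -- `N ⊗ A` is a localization of the smooth `N`-algebra `N ⊗ D`
  haveI : Algebra.Smooth N (N ⊗[R'] D) := inferInstance
  have h1 : EGA4.IsNormalRing (N ⊗[R'] D) := NormalSmooth12.isNormalRing_of_smooth (A := N) hN
  let g : N ⊗[R'] D →ₐ[N] N ⊗[R'] A := Algebra.TensorProduct.map (AlgHom.id N N) (IsScalarTower.toAlgHom R' D A)
  letI : Algebra (N ⊗[R'] D) (N ⊗[R'] A) := g.toRingHom.toAlgebra
  haveI : IsScalarTower N (N ⊗[R'] D) (N ⊗[R'] A) := IsScalarTower.of_algebraMap_eq fun x => (g.commutes x).symm
  haveI := IsLocalization.tensorProduct_tensorProduct_right R' N Q.primeCompl A (RingHom.ext fun a => by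
    show g ((1 : N) ⊗ₜ[R'] a) = (1 : N) ⊗ₜ[R'] algebraMap D A a
    simp [g])
  exact NormalSmooth12.isNormalRing_localization h1
    (Q.primeCompl.map (Algebra.TensorProduct.includeRight (R := R') (A := N))) (N ⊗[R'] A)

theorem isLocalRing_tensor_congr {R' N E E' : Type u} [CommRing R'] [CommRing N] [CommRing E] [CommRing E']
    [Algebra R' N] [Algebra R' E] [Algebra R' E'] (e : E ≃ₐ[R'] E') [IsLocalRing (N ⊗[R'] E')] :
    IsLocalRing (N ⊗[R'] E) :=
  (Algebra.TensorProduct.congr (AlgEquiv.refl (R := R') (A₁ := N)) e).symm.toRingEquiv.isLocalRing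


theorem isPrime_map_of_smooth (R' D : Type u) [CommRing R'] [HenselianLocalRing R'] [CommRing D] [Algebra R' D]
    [Algebra.Smooth R' D] (Q : Ideal D) [Q.IsPrime] (hQ : Q.comap (algebraMap R' D) = maximalIdeal R')
    (E : Type u) [CommRing E] [IsLocalRing E] [Algebra (Localization.AtPrime Q) E]
    [IsLocalHom (algebraMap (Localization.AtPrime Q) E)] [Algebra R' E] [IsScalarTower R' (Localization.AtPrime Q) E]
    (hE : Hensel.IsHenselization (Localization.AtPrime Q) E ∨ Hensel.IsStrictHenselization (Localization.AtPrime Q) E)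
    (hlocal : ∀ (N : Type u) [CommRing N] [IsLocalRing N] [Algebra R' N] [IsLocalHom (algebraMap R' N)],
      Algebra.IsIntegral R' N → IsLocalRing (N ⊗[R'] E)) :
    Function.Injective (algebraMap R' E) ∧ ∀ P : Ideal R', P.IsPrime → (P.map (algebraMap R' E)).IsPrime := by
  let A := Localization.AtPrime Q
  haveI : Module.Flat R' D := Algebra.Smooth.flat R' D
  haveI : Module.Flat D A := IsLocalization.flat A Q.primeCompl
  haveI : Module.Flat R' A := Module.Flat.trans R' D A
  haveI : IsLocalHom (algebraMap R' A) := by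
    refine ((local_hom_TFAE _).out 0 4).mpr ?_
    rw [IsScalarTower.algebraMap_eq R' D A, ← Ideal.comap_comap]
    show ((maximalIdeal A).under D).comap _ = _
    rw [IsLocalization.AtPrime.under_maximalIdeal A Q]
    exact hQ
  haveI : Module.Flat A E := by
    rcases hE with h | h
    · haveI := h; exact (Hens.henselization_faithfullyFlat A E).toFlat
    · haveI := h; exact Hens.strictHenselization_flat A E
  haveI : Module.Flat R' E := Module.Flat.trans R' A E
  haveI : IsLocalHom (algebraMap R' E) := by rw [IsScalarTower.algebraMap_eq R' A E]; infer_instance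
  haveI : Module.FaithfullyFlat R' E := Module.FaithfullyFlat.of_flat_of_isLocalHom
  refine ⟨FaithfulSMul.algebraMap_injective R' E, isPrime_map R' A E hE (fun N _ _ hN => ?_) hlocal⟩
  -- `N ⊗ A` is a localization of the smooth `N`-algebra `N ⊗ D`
  haveI : Algebra.Smooth N (N ⊗[R'] D) := inferInstance
  have h1 : EGA4.IsNormalRing (N ⊗[R'] D) := NormalSmooth12.isNormalRing_of_smooth (A := N) hN
  let g : N ⊗[R'] D →ₐ[N] N ⊗[R'] A := Algebra.TensorProduct.map (AlgHom.id N N) (IsScalarTower.toAlgHom R' D A)
  letI : Algebra (N ⊗[R'] D) (N ⊗[R'] A) := g.toRingHom.toAlgebra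
  haveI : IsScalarTower N (N ⊗[R'] D) (N ⊗[R'] A) := IsScalarTower.of_algebraMap_eq fun x => (g.commutes x).symm
  haveI := IsLocalization.tensorProduct_tensorProduct_right R' N Q.primeCompl A (RingHom.ext fun a => by
    show g ((1 : N) ⊗ₜ[R'] a) = (1 : N) ⊗ₜ[R'] algebraMap D A a
    simp [g])
  exact NormalSmooth12.isNormalRing_localization h1
    (Q.primeCompl.map (Algebra.TensorProduct.includeRight (R := R') (A := N))) (N ⊗[R'] A)

theorem isPurelyInseparable_residue_of_isSepClosed (A N : Type u) [CommRing A] [IsLocalRing A]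
    [IsSepClosed (ResidueField A)] [CommRing N] [IsLocalRing N] [Algebra A N] [IsLocalHom (algebraMap A N)]
    [Algebra.IsIntegral A N] : IsPurelyInseparable (ResidueField A) (ResidueField N) := by
  haveI : Algebra.IsIntegral (ResidueField A) (ResidueField N) := ⟨fun z => by
    obtain ⟨x, rfl⟩ := residue_surjective z
    obtain ⟨P, hP, hPx⟩ := Algebra.IsIntegral.isIntegral (R := A) x
    refine ⟨P.map (residue A), hP.map _, ?_⟩
    rw [Polynomial.eval₂_map, show (algebraMap (ResidueField A) (ResidueField N)).comp (residue A) =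
      (residue N).comp (algebraMap A N) from rfl, ← Polynomial.hom_eval₂, hPx, map_zero]⟩
  refine isPurelyInseparable_iff.mpr fun x => ⟨Algebra.IsIntegral.isIntegral x, fun hs => ?_⟩
  exact minpoly.degree_eq_one_iff.mp (IsSepClosed.degree_eq_one_of_irreducible (k := ResidueField A)
    (minpoly.irreducible (Algebra.IsIntegral.isIntegral x)) hs)

/-- A map of strict henselizations along a smooth map keeps prime ideals prime. -/
theorem exists_strict_map {R S : Type u} [CommRing R] [CommRing S] [Algebra R S] [Algebra.Smooth R S]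
    (q : Ideal S) [q.IsPrime] (p : Ideal R) [p.IsPrime] [q.LiesOver p]
    (Ash : Type u) [CommRing Ash] [IsLocalRing Ash] [Algebra (Localization.AtPrime p) Ash]
    [IsLocalHom (algebraMap (Localization.AtPrime p) Ash)] [Hensel.IsStrictHenselization (Localization.AtPrime p) Ash]
    (Bsh : Type u) [CommRing Bsh] [IsLocalRing Bsh] [Algebra (Localization.AtPrime q) Bsh]
    [IsLocalHom (algebraMap (Localization.AtPrime q) Bsh)] [Hensel.IsStrictHenselization (Localization.AtPrime q) Bsh] :
    ∃ g : Ash →+* Bsh, IsLocalHom g ∧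
      (∀ r : R, g (algebraMap (Localization.AtPrime p) Ash (algebraMap R _ r)) =
        algebraMap (Localization.AtPrime q) Bsh (algebraMap S _ (algebraMap R S r))) ∧
      Function.Injective g ∧ ∀ P : Ideal Ash, P.IsPrime → (P.map g).IsPrime := by
  haveI hA : HenselianLocalRing Ash := Hensel.IsStrictHenselization.henselian (R := Localization.AtPrime p)
  haveI hB : HenselianLocalRing Bsh := Hensel.IsStrictHenselization.henselian (R := Localization.AtPrime q)
  haveI hclA : IsSepClosed (ResidueField Ash) := (Hensel.IsStrictHenselization.isSepClosure (R := Localization.AtPrime p) (S := Ash)).1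
  haveI hclB : IsSepClosed (ResidueField Bsh) := (Hensel.IsStrictHenselization.isSepClosure (R := Localization.AtPrime q) (S := Bsh)).1
  have hqp : p = q.comap (algebraMap R S) := q.over_def p
  let φ := Localization.localRingHom p q (algebraMap R S) hqp
  haveI : IsLocalHom φ := Localization.isLocalHom_localRingHom _ _ _ hqp
  let f : Localization.AtPrime p →+* Bsh := (algebraMap (Localization.AtPrime q) Bsh).comp φ
  obtain ⟨τ, hτ⟩ := Hens.exists_residue_lift (A := Localization.AtPrime p) (S := Ash) f
  obtain ⟨g, ⟨hg, hgτ⟩, -⟩ := Hensel.IsStrictHenselization.universal (R := Localization.AtPrime p) (S := Ash) Bsh f τ hτ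
  haveI : IsLocalHom g := ⟨fun x hx => residue_ne_zero_iff_isUnit x |>.1 fun h => by
    have := residue_ne_zero_iff_isUnit (g x) |>.2 hx
    rw [hgτ, h, map_zero] at this
    exact this rfl⟩
  letI : Algebra R Ash := ((algebraMap (Localization.AtPrime p) Ash).comp (algebraMap R (Localization.AtPrime p))).toAlgebra
  haveI : IsScalarTower R (Localization.AtPrime p) Ash := IsScalarTower.of_algebraMap_eq fun _ => rfl
  letI : Algebra S Bsh := ((algebraMap (Localization.AtPrime q) Bsh).comp (algebraMap S (Localization.AtPrime q))).toAlgebra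
  haveI : IsScalarTower S (Localization.AtPrime q) Bsh := IsScalarTower.of_algebraMap_eq fun _ => rfl
  letI : Algebra R Bsh := ((algebraMap S Bsh).comp (algebraMap R S)).toAlgebra
  haveI : IsScalarTower R S Bsh := IsScalarTower.of_algebraMap_eq fun _ => rfl
  letI : Algebra Ash Bsh := g.toAlgebra
  haveI : IsScalarTower R Ash Bsh := IsScalarTower.of_algebraMap_eq fun r => by
    show algebraMap S Bsh (algebraMap R S r) = g (algebraMap (Localization.AtPrime p) Ash (algebraMap R _ r))
    rw [← RingHom.comp_apply g, hg]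
    show _ = algebraMap (Localization.AtPrime q) Bsh (φ (algebraMap R _ r))
    rw [Localization.localRingHom_to_map]; rfl
  let F := Algebra.TensorProduct.lift (IsScalarTower.toAlgHom R Ash Bsh) (IsScalarTower.toAlgHom R S Bsh) (fun _ _ => Commute.all _ _)
  let Q : Ideal (Ash ⊗[R] S) := Ideal.comap F (maximalIdeal Bsh)
  let E := Hens.Hsh (Localization.AtPrime Q)
  obtain ⟨e, he⟩ := Hens.strictHenselization_tensor_at_prime R S p q Ash Bsh Q E rfl
  letI : Algebra Ash E := ((algebraMap (Localization.AtPrime Q) E).comp (algebraMap Ash (Localization.AtPrime Q))).toAlgebra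
  haveI : IsScalarTower Ash (Localization.AtPrime Q) E := IsScalarTower.of_algebraMap_eq fun _ => rfl
  have heA : ∀ r : Ash, e (algebraMap Ash E r) = algebraMap Ash Bsh r := fun r => by
    show e (algebraMap (Localization.AtPrime Q) E (algebraMap (Ash ⊗[R] S) (Localization.AtPrime Q) (r ⊗ₜ 1))) = _
    refine (he _).trans ?_
    show F (r ⊗ₜ 1) = _
    rw [Algebra.TensorProduct.lift_tmul, map_one, mul_one]; rfl
  let eA : E ≃ₐ[Ash] Bsh := AlgEquiv.ofRingEquiv heA
  have hQ : Q.comap (algebraMap Ash (Ash ⊗[R] S)) = maximalIdeal Ash := by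
    have hg4 : (maximalIdeal Bsh).comap g = maximalIdeal Ash := ((local_hom_TFAE g).out 0 4).mp ‹_›
    rw [← hg4]
    refine Ideal.ext fun r => ?_
    show F (r ⊗ₜ 1) ∈ maximalIdeal Bsh ↔ g r ∈ maximalIdeal Bsh
    rw [Algebra.TensorProduct.lift_tmul, map_one, mul_one]; rfl
  obtain ⟨hinj, hprime⟩ := isPrime_map_of_smooth Ash (Ash ⊗[R] S) Q hQ E (Or.inr inferInstance) fun N _ _ _ _ hN => by
    haveI := hN
    haveI := isPurelyInseparable_residue_of_isSepClosed Ash N
    haveI : IsLocalHom (algebraMap Ash Bsh) := inferInstanceAs (IsLocalHom g)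
    obtain ⟨hloc, -⟩ := Hens.isLocalRing_tensor_of_purelyInseparable Ash N Bsh
    haveI := hloc
    exact isLocalRing_tensor_congr eA
  have hge : g = (e : E →+* Bsh).comp (algebraMap Ash E) := RingHom.ext fun r => (heA r).symm
  refine ⟨g, inferInstance, fun r => ?_, ?_, fun P hP => ?_⟩
  · exact (IsScalarTower.algebraMap_apply R Ash Bsh r).symm
  · rw [hge]; exact e.injective.comp hinj
  · haveI := hprime P hP
    rw [hge, ← Ideal.map_map]
    exact Ideal.map_isPrime_of_equiv e

end Groth.Agent.BranchSm1
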