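import Groth.Agent.Lib.BranchSm1.Local
import Groth.Agent.Lib.Hens.BaseChange
import Groth.Agent.Lib.Hens.Normal
import Groth.Agent.Lib.HensH7.Integral
import Groth.Agent.Lib.Branch14.Primes
import Groth.Agent.Lib.NormalSmooth12.Basic
import Groth.Agent.Lib.Branch14.NormalTensor
import Mathlib.RingTheory.Flat.FaithfullyFlat.Algebra
import Mathlib.FieldTheory.SeparableClosure
import Mathlib.Data.Set.Card

/-!
# Branches do not change along smooth maps of (strictly) henselian rings
-/

open IsLocalRing

open scoped TensorProduct

set_option linter.style.haveILetI false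

namespace Groth.Agent.BranchSm1

universe u

/-- Base change of a strict henselization along an integral local map, when local. -/
theorem isStrictHenselization_tensor {A B S : Type u} [CommRing A] [IsLocalRing A] [CommRing B] [IsLocalRing B]
    [Algebra A B] [IsLocalHom (algebraMap A B)] [Algebra.IsIntegral A B] [CommRing S] [IsLocalRing S] [Algebra A S]
    [IsLocalHom (algebraMap A S)] [Hensel.IsStrictHenselization A S] [IsLocalRing (B ⊗[A] S)]
    [IsLocalHom (algebraMap B (B ⊗[A] S))] :
    Hensel.IsStrictHenselization B (B ⊗[A] S) := by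
  haveI hS : HenselianLocalRing S := Hensel.IsStrictHenselization.henselian (R := A)
  haveI hcl : IsSepClosure (ResidueField A) (ResidueField S) := Hensel.IsStrictHenselization.isSepClosure
  haveI : IsSepClosed (ResidueField S) := hcl.1
  let X := B ⊗[A] S
  letI : Algebra S X := Algebra.TensorProduct.rightAlgebra
  let iB : B →+* X := algebraMap B X
  let iS : S →+* X := algebraMap S X
  haveI hint : Algebra.IsIntegral S X := by
    refine ⟨fun x => ?_⟩
    induction x using TensorProduct.induction_on with
    | zero => exact isIntegral_zero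
    | add x y hx hy => exact hx.add hy
    | tmul b s =>
      obtain ⟨p, hp, hpb⟩ := Algebra.IsIntegral.isIntegral (R := A) b
      have h1 : IsIntegral S ((b ⊗ₜ[A] (1 : S) : X)) := by
        refine ⟨p.map (algebraMap A S), hp.map _, ?_⟩
        rw [Polynomial.eval₂_map,
          show (algebraMap S X).comp (algebraMap A S) = iB.comp (algebraMap A B) from RingHom.ext fun a => by
              show (1 : B) ⊗ₜ[A] algebraMap A S a = algebraMap A B a ⊗ₜ[A] (1 : S)
              rw [Algebra.algebraMap_eq_smul_one, Algebra.algebraMap_eq_smul_one,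
                TensorProduct.tmul_smul, TensorProduct.smul_tmul'],
          show (b ⊗ₜ[A] (1 : S) : X) = iB b from rfl, ← Polynomial.hom_eval₂, hpb, map_zero]
      have := h1.mul (isIntegral_algebraMap (R := S) (A := X) (x := s))
      rwa [show algebraMap S X s = (1 : B) ⊗ₜ[A] s from rfl,
        Algebra.TensorProduct.tmul_mul_tmul, mul_one, one_mul] at this
  haveI hlocS : IsLocalHom (algebraMap S X) := by
    refine ((local_hom_TFAE _).out 0 4).mpr ?_
    exact IsLocalRing.eq_maximalIdeal (Ideal.isMaximal_comap_of_isIntegral_of_isMaximal (maximalIdeal X))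
  haveI hX : HenselianLocalRing X := Hens.henselianLocalRing_of_isIntegral S X
  refine ⟨hX, ?_, fun T _ _ f hf τ hτ => ?_⟩
  · letI : Algebra (ResidueField S) (ResidueField X) := (ResidueField.map iS).toAlgebra
    haveI : Algebra.IsAlgebraic (ResidueField S) (ResidueField X) := by
      haveI : Algebra.IsIntegral (ResidueField S) (ResidueField X) := ⟨fun z => by
        obtain ⟨x, rfl⟩ := residue_surjective z
        obtain ⟨p, hp, hpx⟩ := Algebra.IsIntegral.isIntegral (R := S) x
        refine ⟨p.map (residue S), hp.map _, ?_⟩
        rw [Polynomial.eval₂_map, show (algebraMap (ResidueField S) (ResidueField X)).comp (residue S) =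
          (residue X).comp (algebraMap S X) from rfl, ← Polynomial.hom_eval₂, hpx, map_zero]⟩
      infer_instance
    refine ⟨Hens.isSepClosed_of_isAlgebraic (ResidueField S) (ResidueField X), ⟨fun z => ?_⟩⟩
    let E := separableClosure (ResidueField B) (ResidueField X)
    suffices h : z ∈ E from mem_separableClosure_iff.mp h
    have hB : ∀ b : B, residue X (iB b) ∈ E := fun b => E.algebraMap_mem (residue B b)
    have hSsep : ∀ s : S, residue X (iS s) ∈ E := by
      intro s
      letI : Algebra (ResidueField A) (ResidueField B) := (ResidueField.map (algebraMap A B)).toAlgebra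
      letI : Algebra (ResidueField A) (ResidueField X) :=
        ((ResidueField.map iS).comp (algebraMap (ResidueField A) (ResidueField S))).toAlgebra
      haveI : IsScalarTower (ResidueField A) (ResidueField B) (ResidueField X) :=
        IsScalarTower.of_algebraMap_eq fun a => by
          obtain ⟨a, rfl⟩ := residue_surjective a
          show residue X (iS (algebraMap A S a)) = residue X (iB (algebraMap A B a))
          congr 1
          show (1 : B) ⊗ₜ[A] algebraMap A S a = algebraMap A B a ⊗ₜ[A] (1 : S)
          rw [Algebra.algebraMap_eq_smul_one, Algebra.algebraMap_eq_smul_one,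
            TensorProduct.tmul_smul, TensorProduct.smul_tmul']
      let φ : ResidueField S →ₐ[ResidueField A] ResidueField X :=
        { ResidueField.map iS with commutes' := fun a => rfl }
      have hs : IsSeparable (ResidueField A) (φ (residue S s)) := by
        have h1 : IsSeparable (ResidueField A) (residue S s) :=
          hcl.2.isSeparable' _
        exact h1.map φ φ.toRingHom.injective
      exact mem_separableClosure_iff.mpr (IsSeparable.tower_top (ResidueField B) hs)
    obtain ⟨x, rfl⟩ := residue_surjective z
    induction x using TensorProduct.induction_on with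
    | zero => simp
    | add x y hx hy => rw [map_add]; exact E.add_mem hx hy
    | tmul b s =>
      rw [show (b ⊗ₜ[A] s : X) = iB b * iS s by
        show b ⊗ₜ[A] s = b ⊗ₜ[A] (1 : S) * ((1 : B) ⊗ₜ[A] s)
        rw [Algebra.TensorProduct.tmul_mul_tmul, mul_one, one_mul], map_mul]
      exact E.mul_mem (hB b) (hSsep s)
  · haveI : IsLocalHom (f.comp (algebraMap A B)) := inferInstance
    have hcompat : (τ.comp (ResidueField.map iS)).comp (ResidueField.map (algebraMap A S)) =
        ResidueField.map (f.comp (algebraMap A B)) := by
      refine RingHom.ext fun a => ?_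
      obtain ⟨a, rfl⟩ := residue_surjective a
      show τ (residue X (iS (algebraMap A S a))) = residue T (f (algebraMap A B a))
      have h1 : iS (algebraMap A S a) = iB (algebraMap A B a) := by
        show (1 : B) ⊗ₜ[A] algebraMap A S a = algebraMap A B a ⊗ₜ[A] (1 : S)
        rw [Algebra.algebraMap_eq_smul_one, Algebra.algebraMap_eq_smul_one,
          TensorProduct.tmul_smul, TensorProduct.smul_tmul']
      rw [h1]
      exact RingHom.congr_fun hτ (residue B (algebraMap A B a))
    obtain ⟨g, ⟨hgA, hgres⟩, hgu⟩ := Hensel.IsStrictHenselization.universal (R := A) (S := S) T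
      (f.comp (algebraMap A B)) (τ.comp (ResidueField.map iS)) hcompat
    letI : Algebra A T := (f.comp (algebraMap A B)).toAlgebra
    let fA : B →ₐ[A] T := { f with commutes' := fun a => rfl }
    let gA : S →ₐ[A] T := { g with commutes' := fun a => RingHom.congr_fun hgA a }
    let h : X →ₐ[A] T := Algebra.TensorProduct.lift fA gA fun _ _ => .all _ _
    refine ⟨h.toRingHom, ⟨RingHom.ext fun b => ?_, fun x => ?_⟩, ?_⟩
    · show h (b ⊗ₜ[A] (1 : S)) = f b
      rw [Algebra.TensorProduct.lift_tmul, map_one, mul_one]; rfl
    · show residue T (h x) = τ (residue X x)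
      induction x using TensorProduct.induction_on with
      | zero => simp
      | add x y hx hy => rw [map_add, map_add, map_add, map_add, hx, hy]
      | tmul b s =>
        rw [show (b ⊗ₜ[A] s : X) = iB b * iS s by
          show b ⊗ₜ[A] s = b ⊗ₜ[A] (1 : S) * ((1 : B) ⊗ₜ[A] s)
          rw [Algebra.TensorProduct.tmul_mul_tmul, mul_one, one_mul], map_mul, map_mul, map_mul, map_mul]
        congr 1
        · show residue T (h (b ⊗ₜ[A] (1 : S))) = _
          rw [Algebra.TensorProduct.lift_tmul, map_one, mul_one]
          exact (RingHom.congr_fun hτ (residue B b)).symm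
        · show residue T (h ((1 : B) ⊗ₜ[A] s)) = _
          rw [Algebra.TensorProduct.lift_tmul, map_one, one_mul]
          exact hgres s
    · rintro k ⟨hkB, hkres⟩
      refine RingHom.ext fun x => ?_
      induction x using TensorProduct.induction_on with
      | zero => simp
      | add x y hx hy => rw [map_add, map_add, hx, hy]
      | tmul b s =>
        rw [show (b ⊗ₜ[A] s : X) = iB b * iS s by
          show b ⊗ₜ[A] s = b ⊗ₜ[A] (1 : S) * ((1 : B) ⊗ₜ[A] s)
          rw [Algebra.TensorProduct.tmul_mul_tmul, mul_one, one_mul], map_mul, map_mul]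
        congr 1
        · show k (iB b) = h (b ⊗ₜ[A] (1 : S))
          rw [Algebra.TensorProduct.lift_tmul, map_one, mul_one, ← RingHom.comp_apply, hkB]; rfl
        · show k (iS s) = h ((1 : B) ⊗ₜ[A] s)
          rw [Algebra.TensorProduct.lift_tmul, map_one, one_mul]
          refine RingHom.congr_fun (hgu (k.comp iS) ⟨RingHom.ext fun a => ?_, fun s => hkres (iS s)⟩) s
          show k (iS (algebraMap A S a)) = f (algebraMap A B a)
          rw [← hkB, RingHom.comp_apply]
          congr 1
          show (1 : B) ⊗ₜ[A] algebraMap A S a = algebraMap A B a ⊗ₜ[A] (1 : S)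
          rw [Algebra.algebraMap_eq_smul_one, Algebra.algebraMap_eq_smul_one,
            TensorProduct.tmul_smul, TensorProduct.smul_tmul']

theorem isDomain_tensor_of_normal {A B T : Type u} [CommRing A] [IsLocalRing A] [CommRing B] [Algebra A B]
    [Algebra.IsIntegral A B] [CommRing T] [IsLocalRing T] [Algebra A T] [IsLocalHom (algebraMap A T)]
    (hT : Hensel.IsHenselization A T ∨ Hensel.IsStrictHenselization A T) [IsLocalRing (B ⊗[A] T)]
    (hB : EGA4.IsNormalRing B) : IsDomain (B ⊗[A] T) := by
  haveI : Module.FaithfullyFlat A T := by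
    rcases hT with h | h
    · haveI := h; exact Hens.henselization_faithfullyFlat A T
    · haveI := h; exact Hens.strictHenselization_faithfullyFlat A T
  have hcomap : Function.Surjective (PrimeSpectrum.comap (algebraMap B (B ⊗[A] T))) :=
    PrimeSpectrum.comap_surjective_of_faithfullyFlat
  haveI : Nontrivial B := RingHom.domain_nontrivial (algebraMap B (B ⊗[A] T))
  obtain ⟨M, hM⟩ := Ideal.exists_maximal B
  have huniq : ∀ M' : Ideal B, M'.IsMaximal → M' = (maximalIdeal (B ⊗[A] T)).comap (algebraMap B (B ⊗[A] T)) := by
    intro M' hM'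
    obtain ⟨W, hW⟩ := hcomap ⟨M', hM'.isPrime⟩
    refine hM'.eq_of_le (Ideal.IsPrime.comap _).ne_top ?_
    rw [show M' = W.asIdeal.comap (algebraMap B (B ⊗[A] T)) from (congrArg PrimeSpectrum.asIdeal hW).symm]
    exact Ideal.comap_mono (le_maximalIdeal W.2.ne_top)
  haveI : IsLocalRing B := .of_unique_max_ideal ⟨M, hM, fun M' hM' => (huniq M' hM').trans (huniq M hM).symm⟩
  haveI : IsLocalHom (algebraMap B (B ⊗[A] T)) :=
    ((local_hom_TFAE _).out 0 4).mpr (huniq _ inferInstance).symm
  haveI : IsLocalHom (algebraMap A B) := by
    refine ((local_hom_TFAE _).out 0 4).mpr ?_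
    exact IsLocalRing.eq_maximalIdeal (Ideal.isMaximal_comap_of_isIntegral_of_isMaximal (maximalIdeal B))
  have hBn : IsDomain B ∧ IsIntegrallyClosed B :=
    NormalSmooth12.normalDomain_of_ringEquiv
      (IsLocalization.atUnits B (maximalIdeal B).primeCompl
        (S := Localization.AtPrime (maximalIdeal B)) fun x hx => of_not_not hx).symm.toRingEquiv (hB (maximalIdeal B))
  rcases hT with h | h
  · haveI := h
    obtain ⟨_, _, hh⟩ := Hens.isHenselization_tensor_of_integral A B T
    exact ((Hens.henselization_normal_iff B (B ⊗[A] T)).1 hBn).1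
  · haveI := h
    haveI := isStrictHenselization_tensor (A := A) (B := B) (S := T)
    exact ((Hens.strictHenselization_normal_iff B (B ⊗[A] T)).2 hBn).1

/-- The extension of a prime of the base is prime. -/
theorem isPrime_map (R A T : Type u) [CommRing R] [HenselianLocalRing R] [CommRing A] [IsLocalRing A]
    [Algebra R A] [IsLocalHom (algebraMap R A)] [Module.Flat R A] [CommRing T] [IsLocalRing T] [Algebra A T]
    [IsLocalHom (algebraMap A T)] [Algebra R T] [IsScalarTower R A T]
    (hT : Hensel.IsHenselization A T ∨ Hensel.IsStrictHenselization A T)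
    (hnormal : ∀ (N : Type u) [CommRing N] [Algebra R N], EGA4.IsNormalRing N → EGA4.IsNormalRing (N ⊗[R] A))
    (hlocal : ∀ (N : Type u) [CommRing N] [IsLocalRing N] [Algebra R N] [IsLocalHom (algebraMap R N)],
      Algebra.IsIntegral R N → IsLocalRing (N ⊗[R] T)) :
    ∀ P : Ideal R, P.IsPrime → (P.map (algebraMap R T)).IsPrime := by
  haveI hflatAT : Module.Flat A T := by
    rcases hT with h | h
    · haveI := h; exact (Hens.henselization_faithfullyFlat A T).toFlat
    · haveI := h; exact Hens.strictHenselization_flat A T
  haveI : Module.Flat R T := Module.Flat.trans R A T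
  haveI hffA : Module.FaithfullyFlat A T := by
    rcases hT with h | h
    · haveI := h; exact Hens.henselization_faithfullyFlat A T
    · haveI := h; exact Hens.strictHenselization_faithfullyFlat A T
  haveI : IsLocalHom (algebraMap R T) := by rw [IsScalarTower.algebraMap_eq R A T]; infer_instance
  intro P hP
  haveI := hP
  let K := P.ResidueField
  let N := integralClosure R K
  haveI : IsLocalRing N := HensH7.isLocalRing_of_integral_domain R
  haveI : IsLocalHom (algebraMap R N) := by
    refine ((local_hom_TFAE _).out 0 4).mpr ?_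
    exact IsLocalRing.eq_maximalIdeal (Ideal.isMaximal_comap_of_isIntegral_of_isMaximal (maximalIdeal N))
  haveI : IsFractionRing N K := by
    refine IsFractionRing.of_field N K fun z => ?_
    obtain ⟨a, b, hb, rfl⟩ := IsFractionRing.div_surjective (A := R ⧸ P) z
    obtain ⟨a, rfl⟩ := Ideal.Quotient.mk_surjective a
    obtain ⟨b, rfl⟩ := Ideal.Quotient.mk_surjective b
    exact ⟨algebraMap R N a, algebraMap R N b, rfl⟩
  haveI : IsIntegrallyClosed N :=
    (IsIntegrallyClosed.integralClosure_eq_bot_iff K).mp integralClosure_idem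
  have hN : EGA4.IsNormalRing N := fun Q _ =>
    ⟨IsLocalization.isDomain_localization Q.primeCompl_le_nonZeroDivisors,
      isIntegrallyClosed_of_isLocalization _ Q.primeCompl Q.primeCompl_le_nonZeroDivisors⟩
  haveI : IsLocalRing (N ⊗[R] T) := hlocal N inferInstance
  -- `N ⊗ A` is local and normal
  let B := A ⊗[R] N
  let e₀ : B ≃ₐ[R] N ⊗[R] A := Algebra.TensorProduct.comm R A N
  let e₁ : T ⊗[A] B ≃ₐ[R] N ⊗[R] T :=
    ((Algebra.TensorProduct.cancelBaseChange R A T T N).restrictScalars R).trans (Algebra.TensorProduct.comm R T N)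
  haveI : IsLocalRing (B ⊗[A] T) :=
    ((Algebra.TensorProduct.comm A B T).toRingEquiv.trans e₁.toRingEquiv).symm.isLocalRing
  haveI : IsDomain (B ⊗[A] T) :=
    isDomain_tensor_of_normal (A := A) (B := B) (T := T) hT
      (Branch14.NormalTensor.isNormalRing_of_ringEquiv' e₀.symm.toRingEquiv (hnormal N hN))
  haveI : IsDomain (N ⊗[R] T) :=
    ((Algebra.TensorProduct.comm A B T).toRingEquiv.trans e₁.toRingEquiv).symm.toMulEquiv.isDomain _
  -- the kernel of `T → N ⊗ T` is `P T`
  have hker : RingHom.ker (Algebra.TensorProduct.includeRight : T →ₐ[R] N ⊗[R] T) = P.map (algebraMap R T) := by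
    let ι : P →ₗ[R] R := P.subtype
    let ρ : R →ₗ[R] N := Algebra.linearMap R N
    have hex : Function.Exact ι ρ := fun r => by
      show algebraMap R N r = 0 ↔ _
      rw [Subtype.ext_iff]
      show algebraMap R K r = 0 ↔ _
      rw [Ideal.algebraMap_residueField_eq_zero]
      simp [ι]
    have hexT : Function.Exact (ι.rTensor T) (ρ.rTensor T) := Module.Flat.rTensor_exact T hex
    refine le_antisymm (fun t ht => ?_) ?_
    · have h1 : ρ.rTensor T ((1 : R) ⊗ₜ[R] t) = 0 := by
        rw [LinearMap.rTensor_tmul]
        show algebraMap R N 1 ⊗ₜ[R] t = 0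
        rw [map_one]; exact ht
      obtain ⟨z, hz⟩ := (hexT _).1 h1
      have h2 : ∀ z : P ⊗[R] T, TensorProduct.lid R T (ι.rTensor T z) ∈ P.map (algebraMap R T) := by
        intro z
        induction z using TensorProduct.induction_on with
        | zero => simp
        | add x y hx hy => rw [map_add, map_add]; exact Ideal.add_mem _ hx hy
        | tmul p t =>
          rw [LinearMap.rTensor_tmul, TensorProduct.lid_tmul, Algebra.smul_def]
          exact Ideal.mul_mem_right _ _ (Ideal.mem_map_of_mem _ p.2)
      have := h2 z
      rwa [hz, TensorProduct.lid_tmul, one_smul] at this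
    · rw [Ideal.map_le_iff_le_comap]
      intro p hp
      show (1 : N) ⊗ₜ[R] algebraMap R T p = 0
      rw [Algebra.algebraMap_eq_smul_one, ← TensorProduct.smul_tmul, ← Algebra.algebraMap_eq_smul_one,
        show algebraMap R N p = 0 from Subtype.ext (Ideal.algebraMap_residueField_eq_zero.2 hp), TensorProduct.zero_tmul]
  rw [← hker]
  exact RingHom.ker_isPrime _

/-- The branches are preserved: an abstract form. -/
theorem encard_minimalPrimes_eq (R A T : Type u) [CommRing R] [HenselianLocalRing R] [CommRing A] [IsLocalRing A]
    [Algebra R A] [IsLocalHom (algebraMap R A)] [Module.Flat R A] [CommRing T] [IsLocalRing T] [Algebra A T]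
    [IsLocalHom (algebraMap A T)] [Algebra R T] [IsScalarTower R A T]
    (hT : Hensel.IsHenselization A T ∨ Hensel.IsStrictHenselization A T)
    (hnormal : ∀ (N : Type u) [CommRing N] [Algebra R N], EGA4.IsNormalRing N → EGA4.IsNormalRing (N ⊗[R] A))
    (hlocal : ∀ (N : Type u) [CommRing N] [IsLocalRing N] [Algebra R N] [IsLocalHom (algebraMap R N)],
      Algebra.IsIntegral R N → IsLocalRing (N ⊗[R] T)) :
    (minimalPrimes T).encard = (minimalPrimes R).encard := by
  haveI hflatAT : Module.Flat A T := by
    rcases hT with h | h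
    · haveI := h; exact (Hens.henselization_faithfullyFlat A T).toFlat
    · haveI := h; exact Hens.strictHenselization_flat A T
  haveI : Module.Flat R T := Module.Flat.trans R A T
  haveI hffA : Module.FaithfullyFlat A T := by
    rcases hT with h | h
    · haveI := h; exact Hens.henselization_faithfullyFlat A T
    · haveI := h; exact Hens.strictHenselization_faithfullyFlat A T
  haveI : IsLocalHom (algebraMap R T) := by rw [IsScalarTower.algebraMap_eq R A T]; infer_instance
  -- over each minimal prime of `R` the extended ideal is prime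
  have key : ∀ P ∈ minimalPrimes R, (P.map (algebraMap R T)).IsPrime :=
    fun P hP => isPrime_map R A T hT hnormal hlocal P hP.1.1
  -- the bijection
  let Φ : Ideal T → Ideal R := Ideal.comap (algebraMap R T)
  have hmem : ∀ Q ∈ minimalPrimes T, Φ Q ∈ minimalPrimes R := fun Q hQ => Branch14.comap_mem_minimalPrimes_of_flat Q hQ
  have heq : ∀ Q ∈ minimalPrimes T, Q = (Φ Q).map (algebraMap R T) := fun Q hQ => by
    have hle : (Φ Q).map (algebraMap R T) ≤ Q := Ideal.map_comap_le
    exact le_antisymm (hQ.2 ⟨key _ (hmem Q hQ), bot_le⟩ hle) hle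
  haveI : Module.FaithfullyFlat R T := Module.FaithfullyFlat.of_flat_of_isLocalHom
  have himage : Φ '' minimalPrimes T = minimalPrimes R := by
    refine Set.Subset.antisymm (Set.image_subset_iff.2 hmem) fun P hP => ?_
    haveI := key P hP
    obtain ⟨Q, hQ, hle⟩ := Ideal.exists_minimalPrimes_le (I := (⊥ : Ideal T)) (J := P.map (algebraMap R T)) bot_le
    refine ⟨Q, hQ, le_antisymm ?_ (hP.2 ⟨(hmem Q hQ).1.1, bot_le⟩ ?_)⟩
    · exact (Ideal.comap_mono hle).trans (Ideal.comap_map_eq_self_of_faithfullyFlat P).le
    · exact (Ideal.comap_mono hle).trans (Ideal.comap_map_eq_self_of_faithfullyFlat P).le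
  rw [← himage]
  refine (Set.InjOn.encard_image fun Q hQ Q' hQ' h => ?_).symm
  rw [heq Q hQ, heq Q' hQ', show Φ Q = Φ Q' from h]

end Groth.Agent.BranchSm1
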