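import Groth.Agent.Lib.Hens.StrictBC
import Mathlib.FieldTheory.IsAlgClosed.AlgebraicClosure

/-!
# A tensor product with a local ring with purely inseparable residue field extension is local
-/

open IsLocalRing

open scoped TensorProduct

namespace Groth.Agent.BranchSm1

universe u

variable (R A B : Type u) [CommRing R] [IsLocalRing R]
  [CommRing A] [IsLocalRing A] [Algebra R A] [IsLocalHom (algebraMap R A)] [Algebra.IsIntegral R A]
  [CommRing B] [IsLocalRing B] [Algebra R B] [IsLocalHom (algebraMap R B)]
  [IsPurelyInseparable (ResidueField R) (ResidueField B)]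

/-- A tensor product with an integral algebra with purely inseparable residue field is local. -/
theorem isLocalRing_tensor_of_residue_purelyInseparable :
    IsLocalRing (A ⊗[R] B) := by
  let X := A ⊗[R] B
  let iA : A →+* X := (Algebra.TensorProduct.includeLeft : A →ₐ[R] X).toRingHom
  let iB : B →+* X := (Algebra.TensorProduct.includeRight : B →ₐ[R] X).toRingHom
  let J : Ideal X := (maximalIdeal A).map iA ⊔ (maximalIdeal B).map iB
  let q := ringExpChar (ResidueField A)
  have hq : ExpChar (ResidueField A) q := inferInstance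
  have hqR : ExpChar (ResidueField R) q :=
    (ResidueField.map (algebraMap R A)).expChar (RingHom.injective _) q
  -- nontriviality
  let τA : ResidueField A →ₐ[ResidueField R] AlgebraicClosure (ResidueField A) := IsScalarTower.toAlgHom _ _ _
  let τB : ResidueField B →ₐ[ResidueField R] AlgebraicClosure (ResidueField A) := IsAlgClosed.lift
  let K' := AlgebraicClosure (ResidueField A)
  let φA : A →ₐ[R] K' :=
    { τA.toRingHom.comp (residue A) with commutes' := fun r => (τA.commutes (residue R r)).trans rfl }
  let φB : B →ₐ[R] K' :=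
    { τB.toRingHom.comp (residue B) with commutes' := fun r => (τB.commutes (residue R r)).trans rfl }
  let Φ : X →ₐ[R] K' := Algebra.TensorProduct.lift φA φB fun _ _ => .all _ _
  have : Nontrivial X := Φ.toRingHom.domain_nontrivial
  have hint : iB.IsIntegral := by
    intro x
    induction x using TensorProduct.induction_on with
    | zero => exact iB.isIntegralElem_zero
    | add x y hx hy => exact RingHom.IsIntegralElem.add iB hx hy
    | tmul a b =>
      obtain ⟨p, hp, hpa⟩ := Algebra.IsIntegral.isIntegral (R := R) a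
      have h1 : iB.IsIntegralElem (a ⊗ₜ[R] (1 : B)) := by
        refine ⟨p.map (algebraMap R B), hp.map _, ?_⟩
        rw [Polynomial.eval₂_map, show iB.comp (algebraMap R B) = iA.comp (algebraMap R A) from
          RingHom.ext fun r => by
            show (1 : A) ⊗ₜ[R] algebraMap R B r = algebraMap R A r ⊗ₜ[R] (1 : B)
            rw [Algebra.algebraMap_eq_smul_one, Algebra.algebraMap_eq_smul_one,
              TensorProduct.tmul_smul, TensorProduct.smul_tmul'],
          show a ⊗ₜ[R] (1 : B) = iA a from rfl, ← Polynomial.hom_eval₂, hpa, map_zero]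
      have h2 := RingHom.IsIntegralElem.mul iB h1 (iB.isIntegralElem_map (x := b))
      rwa [show iB b = (1 : A) ⊗ₜ[R] b from rfl, Algebra.TensorProduct.tmul_mul_tmul, mul_one,
        one_mul] at h2
  have hJ : ∀ N : Ideal X, N.IsMaximal → J ≤ N ∧ N.comap iB = maximalIdeal B := by
    intro N hN
    let _ := iB.toAlgebra
    have : Algebra.IsIntegral B X := ⟨hint⟩
    have hB : N.comap iB = maximalIdeal B :=
      eq_maximalIdeal (Ideal.isMaximal_comap_of_isIntegral_of_isMaximal (R := B) N)
    have hR : (N.comap iA).comap (algebraMap R A) = maximalIdeal R := by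
      rw [Ideal.comap_comap, show iA.comp (algebraMap R A) = iB.comp (algebraMap R B) from
        RingHom.ext fun r => by
          show algebraMap R A r ⊗ₜ[R] (1 : B) = (1 : A) ⊗ₜ[R] algebraMap R B r
          rw [Algebra.algebraMap_eq_smul_one, Algebra.algebraMap_eq_smul_one,
            TensorProduct.tmul_smul, TensorProduct.smul_tmul'], ← Ideal.comap_comap, hB]
      exact ((local_hom_TFAE (algebraMap R B)).out 0 4).mp ‹IsLocalHom (algebraMap R B)›
    have hA : N.comap iA = maximalIdeal A := by
      have : (N.comap iA).IsPrime := Ideal.IsPrime.comap _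
      exact eq_maximalIdeal (Ideal.isMaximal_of_isIntegral_of_isMaximal_comap (R := R) _
        (by rw [hR]; infer_instance))
    exact ⟨sup_le (Ideal.map_le_iff_le_comap.mpr hA.ge) (Ideal.map_le_iff_le_comap.mpr hB.ge), hB⟩
  have hpow : ∀ x : X, ∃ (n : ℕ) (c : A), x ^ q ^ n - iA c ∈ J := by
    have hJtop : J ≠ ⊤ := fun h => by
      obtain ⟨N, hN⟩ := Ideal.exists_maximal X
      exact hN.ne_top (top_le_iff.mp (h ▸ (hJ N hN).1))
    have : Nontrivial (X ⧸ J) := Ideal.Quotient.nontrivial_iff.mpr hJtop
    let β : ResidueField A →+* X ⧸ J := Ideal.Quotient.lift _ ((Ideal.Quotient.mk J).comp iA)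
      fun a ha => Ideal.Quotient.eq_zero_iff_mem.mpr
        (Ideal.mem_sup_left (Ideal.mem_map_of_mem iA ha))
    have : ExpChar (X ⧸ J) q := expChar_of_injective_ringHom β.injective q
    have hlift : ∀ (x : X) (n : ℕ) (c : A) (m : ℕ), x ^ q ^ n - iA c ∈ J →
        x ^ q ^ (n + m) - iA (c ^ q ^ m) ∈ J := by
      intro x n b m h
      rw [← Ideal.Quotient.eq] at h ⊢
      rw [map_pow iA, map_pow, map_pow, pow_add, pow_mul, ← map_pow, h]
    intro x
    induction x using TensorProduct.induction_on with
    | zero => exact ⟨0, 0, by simp⟩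
    | add x y hx hy =>
      obtain ⟨n, b, hb⟩ := hx
      obtain ⟨m, c, hc⟩ := hy
      have hb' := hlift x n b m hb
      have hc' := hlift y m c n hc
      rw [add_comm m n] at hc'
      refine ⟨n + m, b ^ q ^ m + c ^ q ^ n, ?_⟩
      rw [← Ideal.Quotient.eq] at hb' hc' ⊢
      rw [map_pow, map_add, map_add, map_add, add_pow_expChar_pow, ← map_pow, hb', ← map_pow, hc']
    | tmul a b =>
      obtain ⟨n, z, hz⟩ := IsPurelyInseparable.pow_mem (ResidueField R) q (residue B b)
      obtain ⟨r, rfl⟩ := residue_surjective z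
      refine ⟨n, algebraMap R A r * a ^ q ^ n, ?_⟩
      have hmem : b ^ q ^ n - algebraMap R B r ∈ maximalIdeal B := by
        rw [← residue_eq_zero_iff, map_sub, map_pow, sub_eq_zero]
        exact hz.symm
      have h1 : (a ⊗ₜ[R] b) ^ q ^ n - iA (algebraMap R A r * a ^ q ^ n) =
          iA (a ^ q ^ n) * iB (b ^ q ^ n - algebraMap R B r) := by
        show (a ⊗ₜ[R] b) ^ q ^ n - (algebraMap R A r * a ^ q ^ n) ⊗ₜ[R] (1 : B) =
          (a ^ q ^ n) ⊗ₜ[R] (1 : B) * ((1 : A) ⊗ₜ[R] (b ^ q ^ n - algebraMap R B r))
        rw [Algebra.TensorProduct.tmul_pow, Algebra.TensorProduct.tmul_mul_tmul, mul_one, one_mul,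
          TensorProduct.tmul_sub, Algebra.algebraMap_eq_smul_one r, Algebra.algebraMap_eq_smul_one r,
          smul_one_mul, TensorProduct.tmul_smul, TensorProduct.smul_tmul']
      rw [h1]
      exact Ideal.mem_sup_right (Ideal.mul_mem_left _ _ (Ideal.mem_map_of_mem iB hmem))
  have huniq : ∀ N N' : Ideal X, N.IsMaximal → N'.IsMaximal → N ≤ N' := by
    intro N N' hN hN' x hx
    obtain ⟨n, c, hc⟩ := hpow x
    have hq0 : q ^ n ≠ 0 := pow_ne_zero _ (expChar_pos (ResidueField A) q).ne'
    have hcN : c ∈ maximalIdeal A := by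
      by_contra hn
      have hu : IsUnit c := of_not_not hn
      refine hN.ne_top (Ideal.eq_top_of_isUnit_mem _ ?_ (hu.map iA))
      simpa using sub_mem (Ideal.pow_mem_of_mem N hx _ (Nat.pos_of_ne_zero hq0)) ((hJ N hN).1 hc)
    refine hN'.isPrime.mem_of_pow_mem (q ^ n) ?_
    simpa using add_mem ((hJ N' hN').1 hc) ((hJ N' hN').1 (Ideal.mem_sup_left (Ideal.mem_map_of_mem iA hcN)))
  obtain ⟨M, hM⟩ := Ideal.exists_maximal X
  exact .of_unique_max_ideal ⟨M, hM, fun N hN =>
    le_antisymm (huniq N M hN hM) (huniq M N hM hN)⟩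

end Groth.Agent.BranchSm1
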